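import Groth.Agent.S3857
import Groth.Prelude.Def_FSch3
import Groth.Prelude.Def_FSch5

/-!
# The levels of an adic system: nilpotency and finite generation of the ideals of the smallest level
-/

set_option autoImplicit false
set_option linter.style.haveILetI false
universe u

open CategoryTheory CategoryTheory.Limits AlgebraicGeometry TopologicalSpace

namespace Groth.Agent.FSchLevLib

variable (𝔛 : FSch.Sys.{u})

theorem iSup_preimage_affine {X Y : Scheme.{u}} (f : X ⟶ Y) :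
    ⨆ V : Y.affineOpens, f ⁻¹ᵁ (V.1) = ⊤ := by
  refine eq_top_iff.2 fun x _ => ?_
  obtain ⟨W, hW, hxW, -⟩ := exists_isAffineOpen_mem_and_subset (X := Y) (x := f x) (U := ⊤) trivial
  exact Opens.mem_iSup.2 ⟨⟨W, hW⟩, hxW⟩

/-- The kernel of the smallest level pushes forward to the kernel at the previous level. -/
theorem map_ker_toX (hF : 𝔛.IsFormal) (n : ℕ) (V : (𝔛.X (n + 1)).affineOpens) :
    (RingHom.ker ((𝔛.toX (n + 1)).app V.1).hom).map ((𝔛.ι n).app V.1).hom =
      RingHom.ker ((𝔛.toX n).app (𝔛.ι n ⁻¹ᵁ V.1)).hom := by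
  haveI := (hF n).1
  haveI := FSch.Sys.toX_isClosedImmersion 𝔛 hF n
  have e : RingHom.ker ((𝔛.toX (n + 1)).app V.1).hom =
      (RingHom.ker ((𝔛.toX n).app (𝔛.ι n ⁻¹ᵁ V.1)).hom).comap ((𝔛.ι n).app V.1).hom := by
    ext x
    show (𝔛.toX n ≫ 𝔛.ι n).app V.1 x = 0 ↔ (𝔛.toX n).app (𝔛.ι n ⁻¹ᵁ V.1) ((𝔛.ι n).app V.1 x) = 0
    rw [Scheme.Hom.comp_app]
    rfl
  rw [e]
  exact Ideal.map_comap_of_surjective _ ((𝔛.ι n).app_surjective V.1 V.2) _

/-- The ideal of the smallest level is nilpotent of order `n + 1` on the `n`-th level. -/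
theorem pow_ker_toX (hF : 𝔛.IsFormal) (hA : 𝔛.IsAdic) (n : ℕ) : (𝔛.toX n).ker ^ (n + 1) = ⊥ := by
  haveI := (hF n).1
  haveI := FSch.Sys.toX_isClosedImmersion 𝔛 hF n
  haveI := FSch.Sys.toX_isClosedImmersion 𝔛 hF (n + 1)
  refine Scheme.IdealSheafData.ext_of_iSup_eq_top
    (fun V : (𝔛.X (n + 1)).affineOpens => ⟨𝔛.ι n ⁻¹ᵁ V.1, V.2.preimage (𝔛.ι n)⟩) (iSup_preimage_affine (𝔛.ι n))
    fun V => ?_
  simp only [Scheme.IdealSheafData.ideal_pow, Pi.pow_apply, Scheme.IdealSheafData.ideal_bot, Pi.bot_apply,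
    Scheme.Hom.ker_apply]
  rw [← map_ker_toX 𝔛 hF n V, ← Ideal.map_pow, Ideal.map_eq_bot_iff_le_ker]
  have h := congrArg (fun I => Scheme.IdealSheafData.ideal I V) (hA n)
  simp only [Scheme.IdealSheafData.ideal_pow, Pi.pow_apply, Scheme.Hom.ker_apply] at h
  exact h.ge

theorem pow_ker_app (hF : 𝔛.IsFormal) (hA : 𝔛.IsAdic) (n : ℕ) (V : (𝔛.X n).affineOpens) :
    RingHom.ker ((𝔛.toX n).app V.1).hom ^ (n + 1) = ⊥ := by
  haveI := FSch.Sys.toX_isClosedImmersion 𝔛 hF n
  have h := congrArg (fun I => Scheme.IdealSheafData.ideal I V) (pow_ker_toX 𝔛 hF hA n)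
  simpa only [Scheme.IdealSheafData.ideal_pow, Pi.pow_apply, Scheme.IdealSheafData.ideal_bot, Pi.bot_apply,
    Scheme.Hom.ker_apply] using h

/-- With a finite type ideal at the first level, the ideal of the smallest level is of finite type everywhere. -/
theorem fg_ker_app (hF : 𝔛.IsFormal) (hA : 𝔛.IsAdic) (hft : FSch.IdealFT (𝔛.ι 0).ker) :
    ∀ (n : ℕ) (V : (𝔛.X n).affineOpens), (RingHom.ker ((𝔛.toX n).app V.1).hom).FG := by
  intro n
  induction n with
  | zero =>
    intro V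
    haveI := FSch.Sys.toX_isClosedImmersion 𝔛 hF 0
    have h := pow_ker_app 𝔛 hF hA 0 V
    rw [pow_one] at h
    rw [h]
    exact Submodule.fg_bot
  | succ n ih =>
    intro V
    haveI := (hF n).1
    haveI := FSch.Sys.toX_isClosedImmersion 𝔛 hF n
    haveI := FSch.Sys.toX_isClosedImmersion 𝔛 hF (n + 1)
    cases n with
    | zero =>
      haveI := (hF 0).1
      have h := hft V
      rw [Scheme.Hom.ker_apply] at h
      have e : 𝔛.toX (0 + 1) = 𝔛.ι 0 := Category.id_comp _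
      rw [e]
      exact h
    | succ m =>
      set K := RingHom.ker ((𝔛.toX (m + 1 + 1)).app V.1).hom
      set π := ((𝔛.ι (m + 1)).app V.1).hom
      have hfg : (K.map π).FG := by
        rw [map_ker_toX 𝔛 hF (m + 1) V]
        exact ih ⟨𝔛.ι (m + 1) ⁻¹ᵁ V.1, V.2.preimage (𝔛.ι (m + 1))⟩
      have hker : RingHom.ker π = K ^ (m + 2) := by
        have h := congrArg (fun I => Scheme.IdealSheafData.ideal I V) (hA (m + 1))
        simpa only [Scheme.IdealSheafData.ideal_pow, Pi.pow_apply, Scheme.Hom.ker_apply] using h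
      have hnil : K ^ (m + 3) = ⊥ := pow_ker_app 𝔛 hF hA (m + 2) V
      obtain ⟨s, hs⟩ := hfg
      classical
      have hsurj := (𝔛.ι (m + 1)).app_surjective V.1 V.2
      have hs' : ∀ y ∈ s, ∃ x ∈ K, π x = y := fun y hy =>
        (Ideal.mem_map_iff_of_surjective π hsurj).1 (hs ▸ Ideal.subset_span hy)
      choose g hgK hg using hs'
      let J : Ideal Γ(𝔛.X (m + 1 + 1), V.1) := Ideal.span (Set.range fun y : s => g y.1 y.2)
      have hJK : J ≤ K := Ideal.span_le.2 (by rintro _ ⟨y, rfl⟩; exact hgK _ _)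
      have hK : K ≤ J ⊔ K ^ (m + 2) := by
        intro x hx
        have h1 : π x ∈ J.map π := by
          have h2 : π x ∈ K.map π := Ideal.mem_map_of_mem π hx
          rw [← hs] at h2
          refine (show Submodule.span _ (s : Set _) ≤ J.map π from Submodule.span_le.2 fun y hy => ?_) h2
          rw [← hg y hy]
          exact Ideal.mem_map_of_mem π (Ideal.subset_span ⟨⟨y, hy⟩, rfl⟩)
        obtain ⟨z, hz, hzx⟩ := (Ideal.mem_map_iff_of_surjective π hsurj).1 h1
        rw [← hker, ← add_sub_cancel z x]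
        exact Ideal.add_mem _ (Ideal.mem_sup_left hz)
          (Ideal.mem_sup_right (by rw [RingHom.mem_ker, map_sub, hzx, sub_self]))
      have hpow : K ^ (m + 2) ≤ J := by
        have key : ∀ i : ℕ, K ^ (i + 1) ≤ J ⊔ K ^ (m + 2 + i) := by
          intro i
          induction i with
          | zero => rw [pow_one, add_zero]; exact hK
          | succ i ih =>
            calc K ^ (i + 1 + 1) = K ^ (i + 1) * K := pow_succ _ _
              _ ≤ (J ⊔ K ^ (m + 2 + i)) * K := Ideal.mul_mono_left ih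
              _ ≤ J ⊔ K ^ (m + 2 + (i + 1)) := by
                rw [Ideal.sup_mul, show K ^ (m + 2 + (i + 1)) = K ^ (m + 2 + i) * K from pow_succ _ _]
                exact sup_le_sup Ideal.mul_le_left le_rfl
        refine (key (m + 1)).trans (sup_le le_rfl ?_)
        rw [show m + 2 + (m + 1) = (m + 3) + m by omega, pow_add, hnil, ← Ideal.zero_eq_bot, zero_mul]
        exact bot_le
      rw [le_antisymm (hK.trans (sup_le le_rfl hpow)) hJK]
      exact Submodule.fg_span (Set.finite_range _)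

/-- Every level is locally Noetherian. -/
theorem isLocallyNoetherian_level (hF : 𝔛.IsFormal) (hA : 𝔛.IsAdic) [IsLocallyNoetherian (𝔛.X 0)]
    (hft : FSch.IdealFT (𝔛.ι 0).ker) (n : ℕ) : IsLocallyNoetherian (𝔛.X n) := by
  refine ⟨fun V => ?_⟩
  haveI := FSch.Sys.toX_isClosedImmersion 𝔛 hF n
  let K := RingHom.ker ((𝔛.toX n).app V.1).hom
  haveI : IsNoetherianRing Γ(𝔛.X 0, 𝔛.toX n ⁻¹ᵁ V.1) :=
    IsLocallyNoetherian.component_noetherian ⟨_, V.2.preimage (𝔛.toX n)⟩
  haveI : IsNoetherianRing (Γ(𝔛.X n, V.1) ⧸ K) :=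
    isNoetherianRing_of_ringEquiv _ (RingHom.quotientKerEquivOfSurjective ((𝔛.toX n).app_surjective V.1 V.2)).symm
  exact DeformLib.isNoetherianRing_of_nilpotent K ⟨n + 1, pow_ker_app 𝔛 hF hA n V⟩ (fg_ker_app 𝔛 hF hA hft n V)

end Groth.Agent.FSchLevLib
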